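import Cfsg.Agent.Blocks.Height
import Cfsg.Agent.Characters.Linear
import Cfsg.Agent.OddOrderChar.Reciprocity
import Cfsg.Agent.PrincipalBlock.Kernel
import Cfsg.Agent.S4713

/-!
# Bounds on irreducible character degrees: inheritance and a norm inequality
-/

set_option autoImplicit false
set_option linter.unusedSectionVars false
set_option linter.style.haveILetI false

namespace CfsgLib.DegreeBound

open Cfsg CfsgLib.Blocks
open scoped ComplexConjugate

universe u

/-- All degrees are less than `b`. -/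
def AllLt (b : ℕ) (G : Type u) [Group G] : Prop :=
  ∀ χ : IrrCharacter G, Cfsg.charDegree (χ : G → ℂ) < b

variable {G : Type u} [Group G] [Fintype G]

/-- Every irreducible character of a subgroup has degree at most that of some character of the
group. -/
theorem exists_degree_ge (K : Subgroup G) (θ : IrrCharacter K) :
    ∃ χ : IrrCharacter G, Cfsg.charDegree (θ : K → ℂ) ≤ Cfsg.charDegree (χ : G → ℂ) := by
  classical
  haveI := Fintype.ofFinite K
  obtain ⟨χ, hχ⟩ : ∃ χ : IrrCharacter G,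
      Cfsg.classInner (fun k : K => (χ : G → ℂ) k) (θ : K → ℂ) ≠ 0 := by
    by_contra hno
    push Not at hno
    have h0 : ∑ χ : IrrCharacter G, (χ : G → ℂ) 1 *
        Cfsg.classInner (fun k : K => (χ : G → ℂ) k) (θ : K → ℂ) = 0 :=
      Finset.sum_eq_zero fun χ _ => by rw [hno χ, mul_zero]
    have hreg : ∀ k : K, ∑ χ : IrrCharacter G, (χ : G → ℂ) 1 * (χ : G → ℂ) k =
        if k = 1 then (Nat.card G : ℂ) else 0 := by
      intro k
      have h := Characters.sum_irr_mul_conj (k : G) 1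
      have h1 : ∀ χ : IrrCharacter G, (χ : G → ℂ) 1 * (χ : G → ℂ) k =
          (χ : G → ℂ) k * conj ((χ : G → ℂ) 1) := fun χ => by
        rw [← charDegree_cast χ, Complex.conj_natCast, mul_comm]
      rw [Finset.sum_congr rfl fun χ _ => h1 χ, h]
      split_ifs with hk
      · subst hk
        rw [Nat.card_congr (Equiv.subtypeUnivEquiv fun x : G => by simp)]
      · haveI : IsEmpty {x : G // x * (k : G) * x⁻¹ = 1} := ⟨fun ⟨x, hx⟩ => hk (Subtype.ext
          (conj_eq_one_iff.1 hx))⟩
        rw [Nat.card_of_isEmpty, Nat.cast_zero]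
    simp only [Cfsg.classInner, Finset.mul_sum] at h0
    rw [Finset.sum_comm] at h0
    have h2 : ∀ k : K, ∑ χ : IrrCharacter G, (χ : G → ℂ) 1 *
        ((Nat.card K : ℂ)⁻¹ * ((χ : G → ℂ) k * conj ((θ : K → ℂ) k))) =
        (Nat.card K : ℂ)⁻¹ * ((if k = 1 then (Nat.card G : ℂ) else 0) * conj ((θ : K → ℂ) k)) := by
      intro k
      rw [← hreg k, Finset.sum_mul, Finset.mul_sum]
      exact Finset.sum_congr rfl fun χ _ => by ring
    rw [Finset.sum_congr rfl fun k _ => h2 k, Finset.sum_eq_single (1 : K) (fun k _ hk => by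
      rw [if_neg hk, zero_mul, mul_zero]) (fun h => absurd (Finset.mem_univ _) h), if_pos rfl,
      ← charDegree_cast θ, Complex.conj_natCast] at h0
    simp [charDegree_ne_zero θ] at h0
  refine ⟨χ, ?_⟩
  have hc := Characters.isCharacter_restrict K (Characters.isCharacter_of_isIrr χ.2)
  obtain ⟨m, hm⟩ := Characters.exists_nat_coeff hc
  have hmθ : 1 ≤ m θ := Nat.pos_of_ne_zero fun h0 => hχ (by
    rw [hm, Characters.classInner_irr_coeff (fun ψ => (m ψ : ℂ)), h0, Nat.cast_zero])
  have h1 : Cfsg.charDegree (χ : G → ℂ) =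
      ∑ ψ : IrrCharacter K, m ψ * Cfsg.charDegree (ψ : K → ℂ) := by
    apply Nat.cast_injective (R := ℂ)
    have := congrFun hm 1
    simp only [Finset.sum_apply, Pi.smul_apply, smul_eq_mul, Subgroup.coe_one] at this
    push_cast
    rw [charDegree_cast χ, this]
    exact Finset.sum_congr rfl fun ψ _ => by rw [charDegree_cast ψ]
  rw [h1]
  calc Cfsg.charDegree (θ : K → ℂ) ≤ m θ * Cfsg.charDegree (θ : K → ℂ) :=
        Nat.le_mul_of_pos_left _ hmθ
    _ ≤ _ := Finset.single_le_sum (f := fun ψ => m ψ * Cfsg.charDegree (ψ : K → ℂ))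
        (fun _ _ => Nat.zero_le _) (Finset.mem_univ θ)

theorem AllLt.subgroup {b : ℕ} (h : AllLt b G) (K : Subgroup G) : AllLt b K := fun θ =>
  let ⟨χ, hχ⟩ := exists_degree_ge K θ
  lt_of_le_of_lt hχ (h χ)

theorem AllLt.quotient {b : ℕ} (h : AllLt b G) (N : Subgroup G) [N.Normal] : AllLt b (G ⧸ N) :=
  fun φ => h ⟨fun g => (φ : G ⧸ N → ℂ) (QuotientGroup.mk' N g),
    Characters.isIrr_comp (QuotientGroup.mk' N) (QuotientGroup.mk'_surjective N) φ.2⟩

theorem AllLt.allPrime {p : ℕ} (h : AllLt p G) : Cfsg.Agent.S4713.AllPrime p G := fun χ hd =>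
  absurd (Nat.le_of_dvd (Nat.pos_of_ne_zero (charDegree_ne_zero χ)) hd) (not_le.2 (h χ))

/-- `p * χ 1 ≤ ∑ |χ u| ^ 2` over a subgroup of prime order `p > χ 1`. -/
theorem mul_degree_le_sum_normSq {p : ℕ} [hp : Fact p.Prime] (P : Subgroup G) [Fintype P]
    (hP : Nat.card P = p) (χ : IrrCharacter G) (hχ : Cfsg.charDegree (χ : G → ℂ) < p) :
    (p : ℝ) * Cfsg.charDegree (χ : G → ℂ) ≤ ∑ u : P, Complex.normSq ((χ : G → ℂ) u) := by
  classical
  have hc := Characters.isCharacter_restrict P (Characters.isCharacter_of_isIrr χ.2)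
  obtain ⟨m, hm⟩ := Characters.exists_nat_coeff hc
  have hd : Cfsg.charDegree (χ : G → ℂ) =
      ∑ ψ : IrrCharacter P, m ψ * Cfsg.charDegree (ψ : P → ℂ) := by
    apply Nat.cast_injective (R := ℂ)
    have := congrFun hm 1
    simp only [Finset.sum_apply, Pi.smul_apply, smul_eq_mul, Subgroup.coe_one] at this
    push_cast
    rw [charDegree_cast χ, this]
    exact Finset.sum_congr rfl fun ψ _ => by rw [charDegree_cast ψ]
  have hle : Cfsg.charDegree (χ : G → ℂ) ≤ ∑ ψ : IrrCharacter P, m ψ ^ 2 := by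
    rw [hd]
    refine Finset.sum_le_sum fun ψ _ => ?_
    rcases (Nat.dvd_prime hp.out).1 (hP ▸ charDegree_dvd_card ψ) with h | h
    · rw [h, mul_one, sq]; exact Nat.le_mul_self _
    · have h2 : m ψ * Cfsg.charDegree (ψ : P → ℂ) ≤ Cfsg.charDegree (χ : G → ℂ) := hd ▸
        Finset.single_le_sum (f := fun ψ => m ψ * Cfsg.charDegree (ψ : P → ℂ))
          (fun _ _ => Nat.zero_le _) (Finset.mem_univ ψ)
      rw [h] at h2 ⊢
      rcases Nat.eq_zero_or_pos (m ψ) with h0 | h0
      · simp [h0]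
      · have := Nat.le_mul_of_pos_left p h0
        omega
  have hsq : Cfsg.classInner (fun u : P => (χ : G → ℂ) u) (fun u : P => (χ : G → ℂ) u) =
      ((∑ ψ : IrrCharacter P, m ψ ^ 2 : ℕ) : ℂ) := by
    rw [Characters.classInner_eq_sum (Characters.isClassFunction_of_isCharacter hc)]
    push_cast
    refine Finset.sum_congr rfl fun ψ _ => ?_
    rw [hm, Characters.classInner_irr_coeff (fun ψ => (m ψ : ℂ)), Complex.conj_natCast, sq]
  have hs : ((∑ u : P, Complex.normSq ((χ : G → ℂ) u) : ℝ) : ℂ) =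
      (((p * ∑ ψ : IrrCharacter P, m ψ ^ 2 : ℕ) : ℝ) : ℂ) := by
    rw [Nat.cast_mul, Complex.ofReal_mul, Complex.ofReal_natCast, Complex.ofReal_natCast, ← hsq,
      Cfsg.classInner, hP, Complex.ofReal_sum, ← mul_assoc,
      mul_inv_cancel₀ (Nat.cast_ne_zero.2 hp.out.ne_zero), one_mul]
    exact Finset.sum_congr rfl fun u _ => (Complex.mul_conj _).symm
  rw [Complex.ofReal_injective hs, ← Nat.cast_mul]
  exact Nat.cast_le.2 (Nat.mul_le_mul_left p hle)

theorem sum_normSq_eq_card_centralizer (u : G) :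
    ∑ χ : IrrCharacter G, Complex.normSq ((χ : G → ℂ) u) =
      (Nat.card (Subgroup.centralizer ({u} : Set G)) : ℝ) := by
  have h := Characters.sum_irr_mul_conj u u
  simp only [Complex.mul_conj] at h
  rw [← Complex.ofReal_sum, ← Complex.ofReal_natCast, Complex.ofReal_inj] at h
  rw [h]
  norm_cast
  refine Nat.card_congr (Equiv.subtypeEquivRight fun x => ?_)
  rw [Subgroup.mem_centralizer_singleton_iff, mul_inv_eq_iff_eq_mul]

end CfsgLib.DegreeBound
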