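import Cfsg.Agent.DegreeBound.PrimeCase
import Cfsg.Agent.S0898
import Cfsg.Agent.BlockPairing.ItoSolvable

/-!
# All degrees less than `p` force a normal abelian Sylow `p`-subgroup
-/

set_option autoImplicit false
set_option linter.unusedSectionVars false
set_option linter.style.haveILetI false

namespace CfsgLib.DegreeBound

open Cfsg CfsgLib.Blocks CfsgLib.PrincipalBlock

universe u

variable {p : ℕ} [Fact p.Prime]

theorem main_sylow {G : Type u} [Group G] [Fintype G] (hs : Cfsg.IsPSolvable p G) (h : AllLt p G)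
    (P : Sylow p G) :
    (P : Subgroup G).Normal ∧ ∀ a ∈ (P : Subgroup G), ∀ b ∈ (P : Subgroup G), a * b = b * a :=
  Cfsg.Agent.S4713.main _ G rfl hs h.allPrime P

theorem isPSolvable : ∀ (n : ℕ) (G : Type u) [Group G] [Fintype G], Nat.card G = n → AllLt p G →
    Cfsg.IsPSolvable p G := by
  intro n
  induction n using Nat.strongRecOn with
  | ind n ih =>
  intro G _ _ hn h
  subst hn
  classical
  have hp : p.Prime := Fact.out
  by_cases hnd : ¬ p ∣ Nat.card G
  · exact PLocal.isPSolvable_of_coprime ((hp.coprime_iff_not_dvd.2 hnd).symm)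
  rw [not_not] at hnd
  have hsub : ∀ K : Subgroup G, K ≠ ⊤ → Cfsg.IsPSolvable p K := fun K hK => by
    haveI := Fintype.ofFinite K
    exact ih _ (lt_of_le_of_ne (Subgroup.card_le_card_group K)
      fun h => hK (Subgroup.eq_top_of_card_eq K h)) K rfl (h.subgroup K)
  by_cases hL : ∃ L : Subgroup G, L.Normal ∧ L ≠ ⊥ ∧ L ≠ ⊤
  · obtain ⟨L, hLn, hL0, hLt⟩ := hL
    haveI := Fintype.ofFinite (G ⧸ L)
    refine PLocal.isPSolvable_of_extension L (hsub L hLt) (ih _ ?_ (G ⧸ L) rfl (h.quotient L))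
    rw [Subgroup.card_eq_card_quotient_mul_card_subgroup L]
    exact lt_mul_of_one_lt_right Nat.card_pos (L.one_lt_card_iff_ne_bot.2 hL0)
  push Not at hL
  by_cases hc : IsMulCommutative G
  · haveI : Group.IsSolvable G :=
      Group.isSolvable_of_comm fun a b => hc.is_comm.comm a b
    exact PLocal.isPSolvable_of_isSolvable
  exfalso
  haveI : Nontrivial G := Finite.one_lt_card_iff_nontrivial.1
    (lt_of_lt_of_le hp.one_lt (Nat.le_of_dvd Nat.card_pos hnd))
  haveI : IsSimpleGroup G := ⟨fun L hLn => by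
    by_cases h0 : L = ⊥
    · exact Or.inl h0
    · exact Or.inr (hL L hLn h0)⟩
  obtain ⟨P⟩ := (inferInstance : Nonempty (Sylow p G))
  have hPbot : (P : Subgroup G) ≠ ⊥ := fun h0 => P.not_dvd_index (by
    rw [h0, Subgroup.index_bot]; exact hnd)
  have hPtop : (P : Subgroup G) ≠ ⊤ := fun h0 => by
    refine hc ⟨⟨fun a b => ?_⟩⟩
    refine Cfsg.Agent.S4713.commute_of_pgroup h.allPrime (fun g => ?_) a b
    obtain ⟨k, hk⟩ := P.2 ⟨g, h0 ▸ Subgroup.mem_top g⟩
    exact ⟨k, congrArg Subtype.val hk⟩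
  have hcomm : ∀ S : Sylow p G, ∀ a ∈ (S : Subgroup G), ∀ b ∈ (S : Subgroup G), a * b = b * a := by
    intro S a ha b hb
    haveI := Fintype.ofFinite (S : Subgroup G)
    exact congrArg Subtype.val (Cfsg.Agent.S4713.commute_of_pgroup
      (h.subgroup (S : Subgroup G)).allPrime S.2 ⟨a, ha⟩ ⟨b, hb⟩)
  have hZ : Subgroup.center G = ⊥ := by
    rcases IsSimpleGroup.eq_bot_or_eq_top_of_normal (Subgroup.center G) inferInstance with hz | hz
    · exact hz
    · exact absurd ⟨⟨fun a b => (Subgroup.mem_center_iff.1 (hz ▸ Subgroup.mem_top b) a)⟩⟩ hc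
  have hctop : ∀ g : G, g ∉ Subgroup.center G → Subgroup.centralizer ({g} : Set G) ≠ ⊤ := by
    intro g hg h0
    exact hg (Subgroup.mem_center_iff.2 fun x =>
      Subgroup.mem_centralizer_singleton_iff.1 (h0 ▸ Subgroup.mem_top x))
  -- a proper centralizer meets at most one Sylow subgroup
  have hti : ∀ (S T : Sylow p G) (x : G), x ≠ 1 → x ∈ (S : Subgroup G) → x ∈ (T : Subgroup G) →
      S = T := by
    intro S T x hx hxS hxT
    set K := Subgroup.centralizer ({x} : Set G) with hK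
    have hKt : K ≠ ⊤ := hctop x (by rw [hZ]; exact hx)
    have hle : ∀ U : Sylow p G, x ∈ (U : Subgroup G) → (U : Subgroup G) ≤ K := fun U hU u hu =>
      Subgroup.mem_centralizer_singleton_iff.2 (hcomm U u hu x hU)
    haveI := Fintype.ofFinite K
    have hn := (main_sylow (hsub K hKt) (h.subgroup K) (S.subtype (hle S hxS))).1
    haveI : Subsingleton (Sylow p K) := (Sylow.unique_of_normal _ hn).instSubsingleton
    have heq := Subsingleton.elim (S.subtype (hle S hxS)) (T.subtype (hle T hxT))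
    have h1 := congrArg (fun U : Sylow p K => ((U : Subgroup K)).map K.subtype) heq
    simp only [Sylow.coe_subtype, Subgroup.subgroupOf_map_subtype,
      inf_of_le_left (hle S hxS), inf_of_le_left (hle T hxT)] at h1
    exact Sylow.ext h1
  haveI := Fintype.ofFinite (P : Subgroup G)
  have hone : ∀ g : G, g ∉ Subgroup.center G → ∀ a b : G,
      Subgroup.centralizer ({g} : Set G) ⊓ (P : Subgroup G).map (MulAut.conj a).toMonoidHom ≠ ⊥ →
      Subgroup.centralizer ({g} : Set G) ⊓ (P : Subgroup G).map (MulAut.conj b).toMonoidHom ≠ ⊥ →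
      (P : Subgroup G).map (MulAut.conj a).toMonoidHom =
        (P : Subgroup G).map (MulAut.conj b).toMonoidHom := by
    intro g hg a b ha hb
    set K := Subgroup.centralizer ({g} : Set G) with hK
    haveI := Fintype.ofFinite K
    obtain ⟨Q⟩ := (inferInstance : Nonempty (Sylow p K))
    have hQn := (main_sylow (hsub K (hctop g hg)) (h.subgroup K) Q).1
    haveI := hQn
    obtain ⟨S, hS⟩ := (Q.2.map K.subtype).exists_le_sylow
    have key : ∀ c : G, K ⊓ (P : Subgroup G).map (MulAut.conj c).toMonoidHom ≠ ⊥ →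
        (S : Subgroup G) = (P : Subgroup G).map (MulAut.conj c).toMonoidHom := by
      intro c hne
      obtain ⟨x, ⟨hxK, hxP⟩, hx1⟩ := Subgroup.bot_or_exists_ne_one _ |>.resolve_left hne
      have hmap : (P : Subgroup G).map (MulAut.conj c).toMonoidHom = ((c • P : Sylow p G) : Subgroup G) := by
        rw [Sylow.coe_subgroup_smul]; rfl
      rw [hmap] at hxP ⊢
      obtain ⟨k, hk⟩ := (c • P).2 ⟨x, hxP⟩
      have hk' : (⟨x, hxK⟩ : K) ^ p ^ k = 1 := Subtype.ext (congrArg Subtype.val hk :)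
      have hxQ : (⟨x, hxK⟩ : K) ∈ (Q : Subgroup K) :=
        ItoSolvable.mem_of_normal_pGroup hp Q.not_dvd_index hk'
      rw [hti S (c • P) x hx1 (hS ⟨_, hxQ, rfl⟩) hxP]
    rw [← key a ha, key b hb]
  obtain ⟨χ, hχ⟩ : ∃ χ : IrrCharacter G, χ ≠ trivChar G := by
    by_contra hno
    push Not at hno
    refine hc ⟨⟨fun a b => ?_⟩⟩
    exact CharactersDeep.PrimePowerDegrees.comm_of_linear (fun χ => by
      rw [hno χ, trivChar_apply]) a b
  have hker : charKer χ = ⊥ :=
    (IsSimpleGroup.eq_bot_or_eq_top_of_normal (charKer χ) inferInstance).resolve_right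
      fun h0 => hχ (eq_trivChar_of_charKer_eq_top h0)
  obtain ⟨x, hx, hx1⟩ := ((P : Subgroup G).bot_or_exists_ne_one).resolve_left hPbot
  have hd1 : (χ : G → ℂ) 1 ≠ 1 := fun h1 => hχ (SylowPrimeOrder.eq_trivChar_of_degree_one hc (by
    apply Nat.cast_injective (R := ℂ); rw [charDegree_cast, h1, Nat.cast_one]))
  have hineq := (Cfsg.Agent.S0898.result (P : Subgroup G) (hcomm P) (by rw [hZ, inf_bot_eq]) hone
    (χ : G → ℂ) χ.2 ⟨x, hx, fun h1 => hx1 (Subgroup.mem_bot.1 (hker ▸ mem_charKer.2 h1))⟩).2 hd1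
    fun L hLn hle => hL L hLn fun h0 => hPbot (le_bot_iff.1 (h0 ▸ hle))
  rw [← charDegree_cast χ, Complex.natCast_re] at hineq
  obtain ⟨k, hk⟩ := IsPGroup.iff_card.1 P.2
  have hk1 : k = 1 := by
    rcases lt_trichotomy k 1 with hlt | heq | hgt
    · exact absurd ((Subgroup.card_eq_one.1 (by rw [hk, show k = 0 by omega, pow_zero]))) hPbot
    · exact heq
    · exfalso
      have h1 : p ^ 2 ≤ Nat.card (P : Subgroup G) := hk ▸ Nat.pow_le_pow_right hp.pos hgt
      have h2 : (1 + Cfsg.charDegree (χ : G → ℂ)) ^ 2 ≤ p ^ 2 :=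
        Nat.pow_le_pow_left (by have := h χ; omega) 2
      have h3 : ((1 + Cfsg.charDegree (χ : G → ℂ)) ^ 2 : ℕ) ≤ Nat.card (P : Subgroup G) :=
        h2.trans h1
      have h4 : ((((1 + Cfsg.charDegree (χ : G → ℂ)) ^ 2 : ℕ)) : ℝ) ≤
          (Nat.card (P : Subgroup G) : ℝ) := Nat.cast_le.2 h3
      push_cast at h4
      linarith
  exact not_allLt_of_prime_sylow hc P (by rw [hk, hk1, pow_one]) h

theorem normal_abelian_sylow {G : Type u} [Group G] [Fintype G] (h : AllLt p G) (P : Sylow p G) :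
    (P : Subgroup G).Normal ∧ ∀ a ∈ (P : Subgroup G), ∀ b ∈ (P : Subgroup G), a * b = b * a :=
  main_sylow (isPSolvable _ G rfl h) h P

end CfsgLib.DegreeBound
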