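import Cfsg.Agent.DegreeBound.Basic
import Cfsg.Agent.SylowPrimeOrder.Simple
import Cfsg.Agent.S4441
import Cfsg.Agent.PrincipalBlock.Basic
import Mathlib.RepresentationTheory.Invariants

/-!
# A simple group with Sylow subgroups of order `p` has a character of degree at least `p`
-/

set_option autoImplicit false
set_option linter.unusedSectionVars false
set_option linter.style.haveILetI false

namespace CfsgLib.DegreeBound

open Cfsg CfsgLib.Blocks CfsgLib.PrincipalBlock
open scoped ComplexConjugate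

universe u

variable {G : Type u} [Group G] [Fintype G]

/-- If the average of a character over a subgroup vanishes, so does the character on every
translate of the subgroup. -/
theorem sum_translate_eq_zero (P : Subgroup G) [Fintype P] (χ : IrrCharacter G)
    (h : ∑ u : P, (χ : G → ℂ) u = 0) (y : G) : ∑ u : P, (χ : G → ℂ) ((u : G) * y) = 0 := by
  classical
  obtain ⟨n, ρ, -, hρ⟩ := χ.2
  rw [← hρ] at h ⊢
  let σ : Representation ℂ P (Fin n → ℂ) := ρ.comp P.subtype
  letI : Invertible (Fintype.card P : ℂ) := invertibleOfNonzero (by simp)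
  have htr : LinearMap.trace ℂ _ σ.averageMap = 0 := by
    simp only [Representation.averageMap, GroupAlgebra.average, map_smul, map_sum,
      MonoidAlgebra.of_apply, Representation.asAlgebraHom_single_one]
    rw [show (∑ u : P, LinearMap.trace ℂ _ (σ u)) = ∑ u : P, ρ.character (u : G) from rfl, h,
      smul_zero]
  have hproj := σ.isProj_averageMap
  rw [hproj.trace] at htr
  have hinv : σ.invariants = ⊥ := Submodule.finrank_eq_zero.1 (by exact_mod_cast htr)
  have havg : σ.averageMap = 0 := LinearMap.ext fun v => by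
    have := hproj.map_mem v
    rwa [hinv, Submodule.mem_bot] at this
  have hsum : ∑ u : P, ρ (u : G) = 0 := by
    simp only [Representation.averageMap, GroupAlgebra.average, map_smul, map_sum,
      MonoidAlgebra.of_apply, Representation.asAlgebraHom_single_one, smul_eq_zero] at havg
    refine havg.resolve_left ?_
    simp
  simp only [Representation.character, map_mul]
  rw [← map_sum, ← Finset.sum_mul, hsum, zero_mul, map_zero]

set_option maxHeartbeats 800000 in
theorem not_allLt_of_prime_sylow {p : ℕ} [Fact p.Prime] [IsSimpleGroup G]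
    (hna : ¬ IsMulCommutative G) (P : Sylow p G) (hP : Nat.card (P : Subgroup G) = p)
    (h : AllLt p G) : False := by
  classical
  have hp : p.Prime := Fact.out
  have h2 := hp.two_le
  have hodd : p ≠ 2 := by
    rintro rfl
    refine hna ⟨⟨fun a b => ?_⟩⟩
    refine CharactersDeep.PrimePowerDegrees.comm_of_linear (fun χ => ?_) a b
    have := h χ
    have := charDegree_ne_zero χ
    rw [← charDegree_cast χ, show Cfsg.charDegree (χ : G → ℂ) = 1 by omega, Nat.cast_one]
  obtain ⟨M, hM⟩ := exists_isPModular p hp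
  haveI := hM.2.1.isPrime
  set N := Subgroup.normalizer ((P : Subgroup G) : Set G) with hN
  set C := Subgroup.centralizer ((P : Subgroup G) : Set G) with hC
  haveI : IsCyclic (P : Subgroup G) := isCyclic_of_prime_card hP
  have hPC : (P : Subgroup G) ≤ C := by
    intro a ha
    rw [hC, Subgroup.mem_centralizer_iff]
    intro b hb
    letI := IsCyclic.commGroup (α := (P : Subgroup G))
    exact congrArg Subtype.val (mul_comm (⟨b, hb⟩ : (P : Subgroup G)) ⟨a, ha⟩)
  have hPne : (P : Subgroup G) ≠ ⊥ := fun h0 => by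
    rw [h0, Subgroup.card_bot] at hP; exact hp.ne_one hP.symm
  have hPtop : (P : Subgroup G) ≠ ⊤ := fun h0 => by
    apply hna
    refine ⟨⟨fun a b => ?_⟩⟩
    letI := IsCyclic.commGroup (α := (P : Subgroup G))
    exact congrArg Subtype.val (mul_comm (⟨a, h0 ▸ Subgroup.mem_top a⟩ : (P : Subgroup G))
      ⟨b, h0 ▸ Subgroup.mem_top b⟩)
  set e := C.relIndex N with he
  have he2 : 2 ≤ e := by
    have h0 : e ≠ 0 := Subgroup.index_ne_zero_of_finite
    by_contra h1
    have hle : N ≤ C := Subgroup.relIndex_eq_one.1 (show e = 1 by omega)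
    have hcomp := MonoidHom.ker_transferSylow_isComplement' P hle
    rcases (IsSimpleGroup.eq_bot_or_eq_top_of_normal (MonoidHom.transferSylow P hle).ker
      inferInstance) with h | h <;> rw [h] at hcomp
    · exact hPtop (Subgroup.isComplement'_bot_left.1 hcomp)
    · exact hPne (Subgroup.isComplement'_top_left.1 hcomp)
  obtain ⟨X, Y, hB, hXY, hX, hY, εX, ε, hXs, hε, -, hYeq, hid⟩ :=
    Cfsg.Agent.S4441.result p M hM hodd P hP e rfl
  have htriv : Cfsg.charDegree ((trivChar G : IrrCharacter G) : G → ℂ) = 1 := by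
    simp [Cfsg.charDegree]
  have hXdeg : ∀ χ ∈ X, χ ≠ trivChar G → εX χ = -1 ∧ Cfsg.charDegree (χ : G → ℂ) = p - 1 := by
    intro χ hχ hne
    obtain ⟨hs, hmod, -⟩ := hXs χ hχ
    have hlt := h χ
    have hpos := Nat.pos_of_ne_zero (charDegree_ne_zero χ)
    obtain ⟨a, ha⟩ := Int.modEq_iff_dvd.1 hmod.symm
    rcases hs with hs | hs <;> rw [hs] at ha
    · exfalso
      have hd : p ∣ Cfsg.charDegree (χ : G → ℂ) - 1 := Int.natCast_dvd_natCast.1
        ⟨a, by rw [Nat.cast_sub (by omega)]; push_cast; linarith⟩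
      rcases Nat.eq_zero_or_pos (Cfsg.charDegree (χ : G → ℂ) - 1) with h0 | h0
      · exact hne (SylowPrimeOrder.eq_trivChar_of_degree_one hna (by omega))
      · have := Nat.le_of_dvd h0 hd
        omega
    · refine ⟨hs, ?_⟩
      have hd : p ∣ Cfsg.charDegree (χ : G → ℂ) + 1 :=
        Int.natCast_dvd_natCast.1 ⟨a, by push_cast; linarith⟩
      have := Nat.le_of_dvd (by omega) hd
      omega
  have hedvd : e ∣ p - 1 := by
    have key := Subgroup.card_dvd_of_injective _
      (QuotientGroup.kerLift_injective (P : Subgroup G).normalizerMonoidHom)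
    rw [Subgroup.normalizerMonoidHom_ker, ← Subgroup.index, ← Subgroup.relIndex,
      IsCyclic.card_mulAut, hP, Nat.totient_prime hp] at key
    exact key
  have hYne : Y.Nonempty := by
    have hele : e ≤ p - 1 := Nat.le_of_dvd (by omega) hedvd
    rw [← Set.ncard_pos, ← Nat.card_coe_set_eq, hY]
    exact Nat.div_pos (by omega) (by omega)
  obtain ⟨η, hη⟩ := hYne
  have hidη : ε * (Cfsg.charDegree (η : G → ℂ) : ℤ) =
      ∑ χ ∈ X.toFinset, εX χ * (Cfsg.charDegree (χ : G → ℂ) : ℤ) := by
    have h1 := hid η hη 1 (by rw [orderOf_one]; exact hp.not_dvd_one)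
    rw [finsum_mem_eq_toFinset_sum] at h1
    apply Int.cast_injective (α := ℂ)
    push_cast
    simp only [charDegree_cast]
    exact h1
  have hXcard : X.toFinset.card = e := by
    rw [Set.toFinset_card, ← Nat.card_eq_fintype_card, hX]
  have hsum : ∀ s : Finset (IrrCharacter G), s ⊆ X.toFinset → trivChar G ∉ s →
      ∑ χ ∈ s, εX χ * (Cfsg.charDegree (χ : G → ℂ) : ℤ) = -((s.card : ℤ) * ((p : ℤ) - 1)) := by
    intro s hs ht
    have hterm : ∀ χ ∈ s, εX χ * (Cfsg.charDegree (χ : G → ℂ) : ℤ) = -((p : ℤ) - 1) :=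
      fun χ hχ => by
        obtain ⟨e1, e2⟩ := hXdeg χ (Set.mem_toFinset.1 (hs hχ)) fun h => ht (h ▸ hχ)
        rw [e1, e2, Nat.cast_sub (by omega : 1 ≤ p)]
        push_cast
        ring
    rw [Finset.sum_congr rfl hterm, Finset.sum_const, nsmul_eq_mul]
    ring
  have hηlt := h η
  have htX : trivChar G ∈ X := by
    have : trivChar G ∈ X ∪ Y := hB ▸ trivChar_mem
    rcases this with h' | h'
    · exact h'
    exfalso
    have h1 := hid _ h' 1 (by rw [orderOf_one]; exact hp.not_dvd_one)
    rw [finsum_mem_eq_toFinset_sum, trivChar_apply, mul_one] at h1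
    have h3 : ε = ∑ χ ∈ X.toFinset, εX χ * (Cfsg.charDegree (χ : G → ℂ) : ℤ) := by
      apply Int.cast_injective (α := ℂ)
      push_cast
      simp only [charDegree_cast]
      exact h1
    rw [hsum _ subset_rfl (fun hh => Set.disjoint_left.1 hXY (Set.mem_toFinset.1 hh) h'),
      hXcard] at h3
    have : (2 : ℤ) * 2 ≤ (e : ℤ) * ((p : ℤ) - 1) := by
      apply mul_le_mul <;> omega
    rcases hε with rfl | rfl <;> linarith
  rw [← Finset.add_sum_erase _ _ (Set.mem_toFinset.2 htX),
    hsum _ (Finset.erase_subset _ _) (Finset.notMem_erase _ _),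
    Finset.card_erase_of_mem (Set.mem_toFinset.2 htX), hXcard] at hidη
  have hεt : εX (trivChar G) = 1 := by
    obtain ⟨hs, hmod, -⟩ := hXs _ htX
    refine hs.resolve_right fun h0 => ?_
    rw [htriv, h0] at hmod
    obtain ⟨a, ha⟩ := Int.modEq_iff_dvd.1 hmod.symm
    have := Nat.le_of_dvd (by norm_num) (Int.natCast_dvd_natCast.1
      ⟨a, by push_cast at ha ⊢; linarith⟩ : p ∣ 2)
    omega
  rw [hεt, htriv, Nat.cast_one, mul_one, Nat.cast_sub (by omega : 1 ≤ e)] at hidη
  push_cast at hidη
  have he_eq : e = 2 := by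
    by_contra hne
    have h3 : (3 : ℤ) ≤ (e : ℤ) := by omega
    have h4 : (2 : ℤ) * ((p : ℤ) - 1) ≤ ((e : ℤ) - 1) * ((p : ℤ) - 1) :=
      mul_le_mul_of_nonneg_right (by omega) (by omega)
    rcases hε with rfl | rfl <;> linarith [show ((Cfsg.charDegree (η : G → ℂ) : ℕ) : ℤ) < p by exact_mod_cast hηlt, show (0:ℤ) ≤ (Cfsg.charDegree (η : G → ℂ) : ℤ) by positivity, show (3:ℤ) ≤ p by omega]
  have hηdeg : ∀ θ ∈ Y, Cfsg.charDegree (θ : G → ℂ) = p - 2 := by
    intro θ hθ
    have he' : Cfsg.charDegree (θ : G → ℂ) = Cfsg.charDegree (η : G → ℂ) := by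
      apply Nat.cast_injective (R := ℂ)
      rw [charDegree_cast, charDegree_cast, hYeq θ hθ η hη 1 (by
        rw [orderOf_one]; exact hp.not_dvd_one)]
    rw [he']
    have he3 : ((e : ℕ) : ℤ) = 2 := by exact_mod_cast he_eq
    rw [he3] at hidη
    rcases hε with rfl | rfl <;> omega
  obtain ⟨χ', hχ', hχ'ne⟩ : ∃ χ' ∈ X, χ' ≠ trivChar G := by
    by_contra hno
    push Not at hno
    have : Nat.card X = 1 := by
      rw [Nat.card_coe_set_eq, Set.ncard_eq_one]
      exact ⟨trivChar G, Set.eq_singleton_iff_unique_mem.2 ⟨htX, hno⟩⟩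
    omega
  obtain ⟨hχs, hχd⟩ := hXdeg χ' hχ' hχ'ne
  -- the centralizer of `P` is `P`
  haveI := Fintype.ofFinite (P : Subgroup G)
  have hval : ∀ y ∈ C, ¬ p ∣ orderOf y → y = 1 := by
    intro y hy hyr
    have hv : ∀ z ∈ C, ¬ p ∣ orderOf z → ∀ u : (P : Subgroup G), u ≠ 1 →
        (χ' : G → ℂ) ((u : G) * z) = -1 := fun z hz hzr u hu => by
      rw [(hXs χ' hχ').2.2 u u.2 (fun h => hu (Subtype.ext h)) z hz hzr, hχs]; simp
    have hsz : ∀ z ∈ C, ¬ p ∣ orderOf z →
        ∑ u : (P : Subgroup G), (χ' : G → ℂ) ((u : G) * z) = (χ' : G → ℂ) z - ((p - 1 : ℕ) : ℂ) := by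
      intro z hz hzr
      rw [← Finset.add_sum_erase _ _ (Finset.mem_univ (1 : (P : Subgroup G))),
        Finset.sum_congr rfl fun u hu => hv z hz hzr u (Finset.ne_of_mem_erase hu),
        Finset.sum_const, Finset.card_erase_of_mem (Finset.mem_univ _), Finset.card_univ,
        ← Nat.card_eq_fintype_card, hP, Subgroup.coe_one, one_mul, nsmul_eq_mul]
      ring
    have h0 : ∑ u : (P : Subgroup G), (χ' : G → ℂ) u = 0 := by
      have := hsz 1 C.one_mem (by rw [orderOf_one]; exact hp.not_dvd_one)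
      simp only [mul_one] at this
      rw [this, ← charDegree_cast χ', hχd, sub_self]
    have h1 := hsz y hy hyr
    rw [sum_translate_eq_zero (P : Subgroup G) χ' h0 y, eq_comm, sub_eq_zero, ← hχd,
      charDegree_cast χ'] at h1
    rcases IsSimpleGroup.eq_bot_or_eq_top_of_normal (charKer χ') inferInstance with hk | hk
    · exact Subgroup.mem_bot.1 (hk ▸ mem_charKer.2 h1)
    · exact absurd (eq_trivChar_of_charKer_eq_top hk) hχ'ne
  have hCp : C ≤ P := by
    obtain ⟨k, hk, hkn⟩ : ∃ k : ℕ, Nat.card C = p * k ∧ ¬ p ∣ k := by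
      obtain ⟨k, hk⟩ := Subgroup.card_dvd_of_le hPC
      rw [hP] at hk
      refine ⟨k, hk, fun hd => ?_⟩
      obtain ⟨j, rfl⟩ := hd
      have h3 : p ^ 2 ∣ Nat.card G :=
        (Dvd.intro j (by rw [hk]; ring) : p ^ 2 ∣ Nat.card C).trans (Subgroup.card_subgroup_dvd_card C)
      obtain ⟨Q, hQ⟩ := Sylow.exists_subgroup_card_pow_prime p h3
      obtain ⟨S, hS⟩ := (IsPGroup.of_card hQ).exists_le_sylow
      have h4 := Subgroup.card_dvd_of_le hS
      rw [hQ, S.card_eq_multiplicity, ← P.card_eq_multiplicity, hP] at h4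
      have := Nat.le_of_dvd hp.pos h4
      nlinarith
    have hk1 : k = 1 := by
      by_contra hne
      obtain ⟨q, hq, hqk⟩ := Nat.exists_prime_and_dvd hne
      haveI := Fact.mk hq
      obtain ⟨y, hy⟩ := exists_prime_orderOf_dvd_card' (G := C) q (hk ▸ hqk.mul_left p)
      have hy' : orderOf (y : G) = q := by rw [Subgroup.orderOf_coe, hy]
      have hpq : ¬ p ∣ q := fun hd => hkn (((Nat.prime_dvd_prime_iff_eq hp hq).1 hd) ▸ hqk)
      have := hval y y.2 (hy' ▸ hpq)
      rw [this, orderOf_one] at hy'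
      exact hq.ne_one hy'.symm
    exact le_of_eq (Subgroup.eq_of_le_of_card_ge hPC (by rw [hk, hk1, hP, mul_one])).symm
  -- the norm over `P`
  set d : IrrCharacter G → ℕ := fun χ => Cfsg.charDegree (χ : G → ℂ) with hd
  have htot : ∑ χ : IrrCharacter G, ((p : ℝ) * d χ - (d χ : ℝ) ^ 2) ≤ (p : ℝ) * ((p : ℝ) - 1) := by
    have hb : ∀ χ : IrrCharacter G, (p : ℝ) * d χ - (d χ : ℝ) ^ 2 ≤
        ∑ u ∈ (Finset.univ : Finset (P : Subgroup G)).erase 1,
          Complex.normSq ((χ : G → ℂ) u) := by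
      intro χ
      have h1 := mul_degree_le_sum_normSq (P : Subgroup G) hP χ (h χ)
      rw [← Finset.add_sum_erase _ _ (Finset.mem_univ (1 : (P : Subgroup G))), Subgroup.coe_one,
        ← charDegree_cast χ, Complex.normSq_natCast, ← sq] at h1
      simp only [hd]
      linarith
    refine (Finset.sum_le_sum fun χ _ => hb χ).trans ?_
    rw [Finset.sum_comm]
    have hu : ∀ u ∈ (Finset.univ : Finset (P : Subgroup G)).erase 1,
        ∑ χ : IrrCharacter G, Complex.normSq ((χ : G → ℂ) u) = (p : ℝ) := fun u hu => by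
      rw [sum_normSq_eq_card_centralizer]
      have hcz : Subgroup.centralizer ({(u : G)} : Set G) = C := by
        refine BlocksCyclic.centralizer_generator hP u.2 ?_
        exact fun h => Finset.ne_of_mem_erase hu (Subtype.ext h)
      rw [hcz, le_antisymm hCp hPC, hP]
    rw [Finset.sum_congr rfl hu, Finset.sum_const, Finset.card_erase_of_mem (Finset.mem_univ _),
      Finset.card_univ, ← Nat.card_eq_fintype_card, hP, nsmul_eq_mul, Nat.cast_sub (by omega)]
    exact le_of_eq (by push_cast; ring)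
  -- the principal block fills the bound
  obtain ⟨m, hm⟩ : ∃ m, p - 1 = 2 * m := by
    rcases hp.eq_two_or_odd' with h | ⟨m, hm⟩
    · exact absurd h hodd
    · exact ⟨m, by omega⟩
  have hYcard : Y.toFinset.card = m := by
    rw [Set.toFinset_card, ← Nat.card_eq_fintype_card, hY, he_eq, hm,
      Nat.mul_div_cancel_left _ (by norm_num)]
  have hXset : X.toFinset = {trivChar G, χ'} := by
    refine (Finset.eq_of_subset_of_card_le ?_ ?_).symm
    · simp [Finset.insert_subset_iff, Set.insert_subset_iff, htX, hχ']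
    · rw [hXcard, Finset.card_pair (Ne.symm hχ'ne)]; omega
  set s := X.toFinset ∪ Y.toFinset with hs
  have hdisj : Disjoint X.toFinset Y.toFinset := Set.disjoint_toFinset.2 hXY
  have hpm : (p : ℝ) = 2 * m + 1 := by
    have : p = 2 * m + 1 := by omega
    exact_mod_cast this
  have hYterm : ∀ θ ∈ Y.toFinset, (d θ : ℝ) = 2 * m - 1 := fun θ hθ => by
    simp only [hd, hηdeg θ (Set.mem_toFinset.1 hθ)]
    rw [Nat.cast_sub h2, hpm]
    push_cast; ring
  have hχ'R : (d χ' : ℝ) = 2 * m := by simp only [hd, hχd, hm]; push_cast; ring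
  have ht1 : (d (trivChar G) : ℝ) = 1 := by simp only [hd, htriv, Nat.cast_one]
  have hblock : ∑ χ ∈ s, ((p : ℝ) * d χ - (d χ : ℝ) ^ 2) = (p : ℝ) * ((p : ℝ) - 1) := by
    rw [hs, Finset.sum_union hdisj, hXset, Finset.sum_pair (Ne.symm hχ'ne),
      Finset.sum_congr rfl (fun θ hθ => by rw [hYterm θ hθ]), Finset.sum_const, hYcard,
      nsmul_eq_mul, hχ'R, ht1, hpm]
    ring
  have hall : s = Finset.univ := by
    refine Finset.eq_univ_of_forall fun χ => ?_
    by_contra hχ
    have hpos : 0 < (p : ℝ) * d χ - (d χ : ℝ) ^ 2 := by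
      have h1 : (d χ : ℝ) < p := Nat.cast_lt.2 (h χ)
      have h0 : (0 : ℝ) < d χ := Nat.cast_pos.2 (Nat.pos_of_ne_zero (charDegree_ne_zero χ))
      nlinarith
    have := Finset.sum_lt_sum_of_subset (f := fun χ => (p : ℝ) * d χ - (d χ : ℝ) ^ 2)
      (Finset.subset_univ s) (Finset.mem_univ χ) hχ hpos fun j _ _ => by
        have h1 : (d j : ℝ) < p := Nat.cast_lt.2 (h j)
        have h0 : (0 : ℝ) ≤ d j := Nat.cast_nonneg _
        nlinarith
    linarith
  have hcard : Nat.card G = 1 + (2 * m) ^ 2 + m * (2 * m - 1) ^ 2 := by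
    apply Nat.cast_injective (R := ℂ)
    rw [← Characters.sum_degree_sq, ← hall, hs, Finset.sum_union hdisj, hXset,
      Finset.sum_pair (Ne.symm hχ'ne),
      Finset.sum_congr rfl (g := fun _ => ((2 * m - 1 : ℕ) : ℂ) ^ 2) (fun θ hθ => by
        rw [← charDegree_cast θ, hηdeg θ (Set.mem_toFinset.1 hθ),
          show p - 2 = 2 * m - 1 by omega]),
      Finset.sum_const, hYcard, nsmul_eq_mul, ← charDegree_cast χ', hχd, hm,
      trivChar_apply, one_pow]
    push_cast
    ring
  have hm1 : m = 1 := by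
    have hdvd : m ∣ 1 := by
      have h1 : m ∣ Nat.card G := (Dvd.intro_left 2 hm.symm).trans (hχd ▸ charDegree_dvd_card χ')
      rw [hcard] at h1
      have h3 : m ∣ (2 * m) ^ 2 + m * (2 * m - 1) ^ 2 :=
        dvd_add ((Dvd.intro_left 2 rfl).trans (dvd_pow_self _ two_ne_zero)) (dvd_mul_right _ _)
      rw [add_assoc] at h1
      exact (Nat.dvd_add_left h3).1 h1
    exact Nat.dvd_one.1 hdvd
  subst hm1
  have hp3 : p = 3 := by omega
  have hindex : (P : Subgroup G).index = 2 := by
    have := (P : Subgroup G).index_mul_card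
    rw [hP, hcard] at this
    have h6 : (P : Subgroup G).index * p = 6 := by rw [this]; norm_num
    rcases Nat.eq_zero_or_pos (P : Subgroup G).index with h0 | h0
    · rw [h0, zero_mul] at h6; omega
    · nlinarith
  exact (Subgroup.normal_of_index_eq_two hindex).eq_bot_or_eq_top.elim hPne hPtop

end CfsgLib.DegreeBound
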